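import Cfsg.Agent.Lib.HallGen.Overgroup.Basic
import Cfsg.Agent.Lib.HallGen.Basic

/-!
Counting tools for overgroups of Sylow subgroups in small simple groups.
-/

set_option autoImplicit false

namespace CfsgLib.HallGen.Overgroup

open scoped Nat

universe u

variable {M : Type u} [Group M] [Finite M]

/-- Without a normal `p`-subgroup the `p`-part of the order divides the symmetric group on the
Sylow subgroups. -/
theorem pow_dvd_factorial_sylow {p : ℕ} [Fact p.Prime] (h : Cfsg.pCore p M = ⊥) {a : ℕ}
    (ha : p ^ a ∣ Nat.card M) : p ^ a ∣ (Nat.card (Sylow p M))! := by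
  let f : M →* Equiv.Perm (Sylow p M) := MulAction.toPermHom M (Sylow p M)
  have hK : ¬ p ∣ Nat.card f.ker := by
    intro hd
    obtain ⟨⟨x, hx⟩, hxp⟩ := exists_prime_orderOf_dvd_card' p hd
    rw [Subgroup.orderOf_mk] at hxp
    have hall : ∀ P : Sylow p M, x ∈ P := by
      intro P
      have hN : x ∈ Subgroup.normalizer ((P : Subgroup M) : Set M) :=
        Sylow.smul_eq_iff_mem_normalizer.1 (Equiv.Perm.ext_iff.1 (MonoidHom.mem_ker.1 hx) P)
      have hZ : IsPGroup p (Subgroup.zpowers x) :=
        CfsgLib.HallGen.isPGroup_zpowers (k := 1) (by rw [hxp, pow_one])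
      have h1 : IsPGroup p ↥((Subgroup.zpowers x) ⊔ (P : Subgroup M)) :=
        hZ.to_sup_of_normal_right' P.isPGroup' (Subgroup.zpowers_le.2 hN)
      have h2 := P.is_maximal' h1 le_sup_right
      show x ∈ (P : Subgroup M)
      rw [← h2]
      exact Subgroup.mem_sup_left (Subgroup.mem_zpowers x)
    have h1 := CfsgLib.HallGen.mem_pCore_of_forall_sylow p x hall
    rw [h, Subgroup.mem_bot] at h1
    rw [h1, orderOf_one] at hxp
    exact (Fact.out : p.Prime).ne_one hxp.symm
  rw [← f.ker.card_mul_index, Subgroup.index_ker] at ha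
  have h2 := (Nat.Coprime.pow_left a (((Fact.out : p.Prime).coprime_iff_not_dvd).2 hK)).dvd_of_dvd_mul_left ha
  refine h2.trans ?_
  rw [← Nat.card_perm]
  exact Subgroup.card_subgroup_dvd_card _

/-- The number of Sylow subgroups divides the complementary part of the order. -/
theorem card_sylow_dvd {p : ℕ} [hp : Fact p.Prime] {a k : ℕ} (hc : Nat.card M = p ^ a * k)
    (hk : ¬ p ∣ k) : Nat.card (Sylow p M) ∣ k := by
  obtain ⟨P⟩ : Nonempty (Sylow p M) := inferInstance
  have h1 := P.card_dvd_index
  have h2 : Nat.card ↥(P : Subgroup M) = p ^ a := by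
    rw [P.card_eq_multiplicity, hc, Nat.factorization_mul (pow_ne_zero _ hp.out.ne_zero)
      (fun h => hk (by rw [h]; exact dvd_zero p)), Finsupp.add_apply, hp.out.factorization_pow,
      Finsupp.single_eq_same, Nat.factorization_eq_zero_of_not_dvd hk, add_zero]
  have h3 := (P : Subgroup M).card_mul_index
  rw [h2, hc] at h3
  rwa [Nat.eq_of_mul_eq_mul_left (pow_pos hp.out.pos a) h3] at h1

variable {G : Type u} [Group G] [Finite G]

/-- A proper subgroup of a simple group has index `n` with the order dividing `n!`. -/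
theorem card_dvd_factorial_index [IsSimpleGroup G] {H : Subgroup G} (hH : H ≠ ⊤) :
    Nat.card G ∣ H.index ! := by
  have h1 : H.normalCore = ⊥ := (H.normalCore_normal.eq_bot_or_eq_top).resolve_right fun h =>
    hH (top_le_iff.1 (h ▸ H.normalCore_le))
  have h2 : H.normalCore.index ∣ H.index ! := by
    rw [Subgroup.normalCore_eq_ker, Subgroup.index_ker, Subgroup.index_eq_card, ← Nat.card_perm]
    exact Subgroup.card_subgroup_dvd_card (MulAction.toPermHom G (G ⧸ H)).range
  rwa [h1, Subgroup.index_bot] at h2

/-- When a subgroup has a normal Sylow `q`-subgroup that is one of the whole group, the Sylow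
number of the whole group divides its index. -/
theorem card_sylow_dvd_index {q : ℕ} [Fact q.Prime] {H : Subgroup G}
    (h1 : Nat.card (Sylow q H) = 1) (hidx : ¬ q ∣ H.index) :
    Nat.card (Sylow q G) ∣ H.index := by
  obtain ⟨R⟩ : Nonempty (Sylow q H) := inferInstance
  haveI : Subsingleton (Sylow q H) := (Nat.card_eq_one_iff_unique.1 h1).1
  haveI : (R : Subgroup H).Normal := R.normal_of_subsingleton
  obtain ⟨P, hP⟩ := (R.isPGroup'.map H.subtype).exists_le_sylow
  have he : (R : Subgroup H).map H.subtype = (P : Subgroup G) := by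
    refine Subgroup.eq_of_le_of_card_ge hP (le_of_eq ?_)
    rw [Subgroup.card_map_of_injective (Subgroup.subtype_injective H), P.card_eq_multiplicity,
      R.card_eq_multiplicity, ← H.card_mul_index, Nat.factorization_mul Nat.card_pos.ne'
      H.index_ne_zero_of_finite, Finsupp.add_apply, Nat.factorization_eq_zero_of_not_dvd hidx, add_zero]
  rw [P.card_eq_index_normalizer]
  refine Subgroup.index_dvd_of_le fun x hx => ?_
  show x ∈ Subgroup.normalizer ((P : Subgroup G) : Set G)
  rw [← he]
  refine Subgroup.le_normalizer_map H.subtype ⟨⟨x, hx⟩, ?_, rfl⟩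
  rw [Subgroup.normalizer_eq_top]
  exact Subgroup.mem_top _

/-- A simple group of composite order has more than one Sylow subgroup for each prime. -/
theorem card_sylow_ne_one [IsSimpleGroup G] {q : ℕ} [hq : Fact q.Prime] (hd : q ∣ Nat.card G)
    (hne : ∀ k, Nat.card G ≠ q ^ k) : Nat.card (Sylow q G) ≠ 1 := by
  intro h
  obtain ⟨P⟩ : Nonempty (Sylow q G) := inferInstance
  haveI : Subsingleton (Sylow q G) := (Nat.card_eq_one_iff_unique.1 h).1
  haveI : (P : Subgroup G).Normal := P.normal_of_subsingleton
  rcases Subgroup.Normal.eq_bot_or_eq_top (H := (P : Subgroup G)) inferInstance with h1 | h1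
  · exact P.ne_bot_of_dvd_card hd h1
  · obtain ⟨k, hk⟩ := IsPGroup.iff_card.1 P.isPGroup'
    exact hne k (by rw [← hk, h1, Subgroup.card_top])

end CfsgLib.HallGen.Overgroup
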