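import Mathlib
import Cfsg.Prelude.Def_Solvable

/-!
Overgroups of a Sylow `p`-subgroup normalising no nontrivial `p`-subgroup.
-/

set_option autoImplicit false

namespace CfsgLib.HallGen.Overgroup

universe u v

/-- A `p`-core free subgroup of index prime to `p` is everything. -/
def OverTop (p : ℕ) (G : Type u) [Group G] : Prop :=
  ∀ M : Subgroup G, ¬ p ∣ M.index → Cfsg.pCore p ↥M = ⊥ → M = ⊤

/-- No nontrivial `p`-subgroup is normalised by `M`. -/
def NoNorm (p : ℕ) {G : Type u} [Group G] (M : Subgroup G) : Prop :=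
  ∀ Q : Subgroup G, IsPGroup p Q → M ≤ Subgroup.normalizer (Q : Set G) → Q = ⊥

variable {G : Type u} [Group G] {p : ℕ}

theorem le_normalizer_of_conj {M Q : Subgroup G} (h : ∀ m ∈ M, ∀ x ∈ Q, m * x * m⁻¹ ∈ Q) :
    M ≤ Subgroup.normalizer (Q : Set G) := by
  intro m hm
  refine Subgroup.mem_normalizer_iff.2 fun x => ⟨fun hx => h m hm x hx, fun hx => ?_⟩
  have h1 := h m⁻¹ (inv_mem hm) _ hx
  simpa [mul_assoc] using h1

/-- A `p`-subgroup normalised by a Sylow subgroup lies in it. -/
theorem le_sylow_of_normalised [Fact p.Prime] (P : Sylow p G) {Q : Subgroup G} (hQ : IsPGroup p Q)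
    (h : (P : Subgroup G) ≤ Subgroup.normalizer (Q : Set G)) : Q ≤ P := by
  have h1 : IsPGroup p ↥((P : Subgroup G) ⊔ Q) := P.isPGroup'.to_sup_of_normal_right' hQ h
  calc Q ≤ (P : Subgroup G) ⊔ Q := le_sup_right
    _ = P := P.is_maximal' h1 le_sup_left

theorem le_of_normalised [Fact p.Prime] (P : Sylow p G) {M Q : Subgroup G} (hPM : (P : Subgroup G) ≤ M)
    (hQ : IsPGroup p Q) (h : (P : Subgroup G) ≤ Subgroup.normalizer (Q : Set G)) : Q ≤ M :=
  (le_sylow_of_normalised P hQ h).trans hPM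

/-- It is enough to treat the overgroups of one Sylow subgroup. -/
theorem overTop_of_sylow [Finite G] [Fact p.Prime] (P : Sylow p G)
    (h : ∀ M : Subgroup G, (P : Subgroup G) ≤ M → NoNorm p M → M = ⊤) : OverTop p G := by
  intro M hidx hcore
  obtain ⟨S, hS⟩ : ∃ S : Sylow p G, (S : Subgroup G) ≤ M := by
    obtain ⟨R⟩ : Nonempty (Sylow p M) := inferInstance
    obtain ⟨S, hS⟩ := (R.isPGroup'.map M.subtype).exists_le_sylow
    refine ⟨S, ?_⟩
    have hc : Nat.card ↥((R : Subgroup M).map M.subtype) = Nat.card ↥(R : Subgroup M) :=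
      Subgroup.card_map_of_injective (Subgroup.subtype_injective M)
    have he : Nat.card ↥(S : Subgroup G) = Nat.card ↥(R : Subgroup M) := by
      rw [S.card_eq_multiplicity, R.card_eq_multiplicity, ← M.card_mul_index,
        Nat.factorization_mul Nat.card_pos.ne' M.index_ne_zero_of_finite, Finsupp.add_apply,
        Nat.factorization_eq_zero_of_not_dvd hidx, add_zero]
    rw [← Subgroup.eq_of_le_of_card_ge hS (by rw [hc, he])]
    exact Subgroup.map_subtype_le _
  obtain ⟨g, rfl⟩ := MulAction.exists_smul_eq G P S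
  set φ := (MulAut.conj g⁻¹).toMonoidHom with hφ
  have hinj : Function.Injective φ := (MulAut.conj g⁻¹).injective
  have hsur : Function.Surjective φ := (MulAut.conj g⁻¹).surjective
  have hP : (P : Subgroup G) ≤ M.map φ := fun x hx => by
    refine ⟨g * x * g⁻¹, hS ?_, ?_⟩
    · rw [Sylow.coe_subgroup_smul]
      exact Subgroup.smul_mem_pointwise_smul x (MulAut.conj g) _ hx
    · simp [hφ, MulAut.conj_apply, mul_assoc]
  have hno : NoNorm p (M.map φ) := by
    intro Q hQ hN
    have hQM : Q ≤ M.map φ := le_of_normalised P hP hQ (hP.trans hN)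
    have h2 : IsPGroup p ↥((Q.comap φ).subgroupOf M) :=
      (hQ.comap_of_injective φ hinj).comap_subtype
    have h3 : ((Q.comap φ).subgroupOf M).Normal := by
      refine ⟨fun x hx m => ?_⟩
      simp only [Subgroup.mem_subgroupOf, Subgroup.mem_comap, Subgroup.coe_mul, Subgroup.coe_inv,
        map_mul, map_inv] at hx ⊢
      exact (Subgroup.mem_normalizer_iff.1 (hN ⟨m, m.2, rfl⟩) _).1 hx
    have h4 : (Q.comap φ).subgroupOf M = ⊥ := le_bot_iff.1 (hcore ▸ le_sSup ⟨h3, h2⟩)
    refine (Subgroup.eq_bot_iff_forall _).2 fun x hx => ?_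
    obtain ⟨y, hy, rfl⟩ := hQM hx
    have h5 : (⟨y, hy⟩ : M) ∈ (Q.comap φ).subgroupOf M := by simpa [Subgroup.mem_subgroupOf] using hx
    rw [h4, Subgroup.mem_bot] at h5
    rw [show y = 1 from congrArg Subtype.val h5, map_one]
  have h6 := h _ hP hno
  rw [eq_top_iff]
  intro x _
  obtain ⟨y, hy, e⟩ : φ x ∈ M.map φ := h6 ▸ Subgroup.mem_top _
  rwa [← hinj e]

theorem OverTop.of_equiv {H : Type v} [Group H] (h : OverTop p H) (e : G ≃* H) : OverTop p G := by
  intro M hidx hcore
  have h1 : ¬ p ∣ (M.map e.toMonoidHom).index := by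
    rwa [Subgroup.index_map_of_bijective (f := e.toMonoidHom) e.bijective]
  have h2 : Cfsg.pCore p ↥(M.map e.toMonoidHom) = ⊥ := by
    let f : ↥M ≃* ↥(M.map e.toMonoidHom) := e.subgroupMap M
    refine le_bot_iff.1 (sSup_le fun N ⟨hN, hNp⟩ => ?_)
    have h3 : N.comap f.toMonoidHom = ⊥ := le_bot_iff.1 (hcore ▸ le_sSup
      ⟨Subgroup.Normal.comap hN _, hNp.comap_of_injective _ f.injective⟩)
    intro x hx
    have h4 : f.symm x ∈ N.comap f.toMonoidHom := by
      rw [Subgroup.mem_comap, MulEquiv.coe_toMonoidHom, MulEquiv.apply_symm_apply]; exact hx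
    rw [h3, Subgroup.mem_bot, MulEquiv.map_eq_one_iff] at h4
    exact h4
  have h5 := h _ h1 h2
  rw [eq_top_iff]
  intro x _
  obtain ⟨y, hy, he⟩ : e.toMonoidHom x ∈ M.map e.toMonoidHom := h5 ▸ Subgroup.mem_top _
  rwa [← e.injective he]

/-- Pulling back along an extension by a normal subgroup of order prime to `p`. -/
theorem overTop_of_cover {E : Type v} [Group E] [Finite E] [Finite G] [Fact p.Prime] (π : E →* G)
    (hπ : Function.Surjective π) (hker : ¬ p ∣ Nat.card π.ker)
    (h : ∀ (P : Sylow p E) (M : Subgroup E), (P : Subgroup E) ≤ M → NoNorm p M → M.map π = ⊤) :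
    OverTop p G := by
  obtain ⟨P⟩ : Nonempty (Sylow p E) := inferInstance
  refine overTop_of_sylow (P.mapSurjective hπ) fun M hM hno => ?_
  rw [Sylow.coe_mapSurjective] at hM
  have hPM : (P : Subgroup E) ≤ M.comap π := Subgroup.map_le_iff_le_comap.1 hM
  have h1 : NoNorm p (M.comap π) := by
    intro Q hQ hN
    have h2 : Q.map π = ⊥ := hno _ (hQ.map π) (le_normalizer_of_conj fun m hm x hx => by
      obtain ⟨y, hy, rfl⟩ := hx
      obtain ⟨a, rfl⟩ := hπ m
      exact ⟨a * y * a⁻¹, (Subgroup.mem_normalizer_iff.1 (hN hm) y).1 hy, by simp⟩)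
    have h3 : Q ≤ π.ker := (Subgroup.map_eq_bot_iff Q).1 h2
    obtain ⟨n, hn⟩ := IsPGroup.iff_card.1 hQ
    have h4 := Subgroup.card_dvd_of_le h3
    rw [hn] at h4
    rcases Nat.eq_zero_or_pos n with rfl | hn0
    · exact Subgroup.card_eq_one.1 (by simpa using hn)
    · exact absurd ((dvd_pow_self p hn0.ne').trans h4) hker
  have h5 := h P _ hPM h1
  rw [eq_top_iff, ← h5]
  exact Subgroup.map_comap_le π M

/-- Containing a noncentral conjugation-invariant set forces surjection onto a simple group. -/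
theorem map_eq_top_of_invariant {E : Type v} [Group E] [IsSimpleGroup G] {π : E →* G}
    (hπ : Function.Surjective π) (S : Set E) (hS : ∀ g : E, ∀ a ∈ S, g * a * g⁻¹ ∈ S)
    (hne : ∃ a ∈ S, π a ≠ 1) {M : Subgroup E} (hSM : S ⊆ M) : M.map π = ⊤ := by
  have hN : (Subgroup.normalClosure S).map π = ⊤ := by
    refine ((Subgroup.normalClosure_normal.map π hπ).eq_bot_or_eq_top).resolve_left fun h => ?_
    obtain ⟨a, ha, ha1⟩ := hne
    have h1 : π a ∈ (Subgroup.normalClosure S).map π := ⟨a, Subgroup.subset_normalClosure ha, rfl⟩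
    rw [h, Subgroup.mem_bot] at h1
    exact ha1 h1
  rw [eq_top_iff, ← hN]
  refine Subgroup.map_mono ?_
  refine (Subgroup.closure_le _).2 fun x hx => ?_
  obtain ⟨a, ha, hc⟩ := Group.mem_conjugatesOfSet_iff.1 hx
  obtain ⟨g, rfl⟩ := isConj_iff.1 hc
  exact hSM (hS g a ha)

end CfsgLib.HallGen.Overgroup
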